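import Cfsg.Agent.H657.IBrBlock

/-!
# The number of `p`-regular classes is at most the number of irreducible Brauer characters
-/

set_option autoImplicit false

namespace Cfsg.Agent.H197.Reg

open Cfsg IsLocalRing Module
open Cfsg.Agent.H657 Cfsg.Agent.H608.BlockRank

variable {V : ValuationSubring ℂ} {G : Type} [Group G] [Finite G] {p : ℕ} {M : Ideal AlgInt}

open Classical in
/-- the indicator function of a class -/
noncomputable def ind (x : G) : G → ℂ := fun g => if IsConj x g then 1 else 0

omit [Finite G] in
theorem ind_isClassFunction (x : G) : IsClassFunction G (ind x) := by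
  classical
  intro g h
  unfold ind
  have h1 : IsConj g (h * g * h⁻¹) := isConj_iff.2 ⟨h, rfl⟩
  have h2 : IsConj x (h * g * h⁻¹) ↔ IsConj x g :=
    ⟨fun k => k.trans h1.symm, fun k => k.trans h1⟩
  simp only [h2]

omit [Finite G] in
theorem pReg_ind {x : G} (hx : IsPRegular p x) : pReg p (ind x) = ind x := by
  classical
  funext g
  by_cases h : IsPRegular p g
  · rw [pReg_of h]
  · rw [pReg_of_not h]
    unfold ind
    rw [if_neg]
    intro hc
    obtain ⟨c, rfl⟩ := isConj_iff.1 hc
    exact h ((isPRegular_conj x c).2 hx)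

theorem ind_mem (hM : IsPModular p M) (hV : Above M V) {x : G} (hx : IsPRegular p x) :
    ind x ∈ Submodule.span ℂ (Set.range fun i : IBr V G => phi p i) := by
  have := Fintype.ofFinite G
  have h1 : ind x ∈ (charSpan (Set.univ : Set (IrrCharacter G))).map (pReg p) := by
    refine ⟨ind x, ?_, pReg_ind hx⟩
    exact mem_charSpan_of_classInner (ind_isClassFunction x) fun ψ hψ => absurd (Set.mem_univ _) hψ
  refine Submodule.span_mono ?_ (map_pReg_le_span hM hV _ h1)
  rintro _ ⟨i, -, rfl⟩
  exact ⟨i, rfl⟩

omit [Finite G] in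
theorem ind_linearIndependent {ι : Type*} [Fintype ι] (f : ι → G) (hf : ∀ i j, IsConj (f i) (f j) → i = j) :
    LinearIndependent ℂ fun i => ind (f i) := by
  classical
  rw [Fintype.linearIndependent_iff]
  intro c hc j
  have h1 := congrFun hc (f j)
  rw [Finset.sum_apply, Finset.sum_eq_single j] at h1
  · rw [Pi.smul_apply, smul_eq_mul, ind, if_pos (IsConj.refl _), mul_one, Pi.zero_apply] at h1
    exact h1
  · intro i _ hij
    rw [Pi.smul_apply, smul_eq_mul, ind, if_neg (fun h => hij (hf i j h)), mul_zero]
  · intro h
    exact absurd (Finset.mem_univ _) h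

/-- **the number of `p`-regular classes is at most the number of irreducible Brauer characters** -/
theorem card_le_ibr (hM : IsPModular p M) (hV : Above M V) {ι : Type*} [Fintype ι] (f : ι → G)
    (hr : ∀ i, IsPRegular p (f i)) (hf : ∀ i j, IsConj (f i) (f j) → i = j) :
    Fintype.card ι ≤ Nat.card (IBr V G) := by
  classical
  have := Fintype.ofFinite (IBr V G)
  have h2 : Submodule.span ℂ (Set.range fun i => ind (f i)) ≤
      Submodule.span ℂ (Set.range fun i : IBr V G => phi p i) := by
    rw [Submodule.span_le]
    rintro _ ⟨i, rfl⟩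
    exact ind_mem hM hV (hr i)
  have h3 := Submodule.finrank_mono h2
  rw [finrank_span_eq_card (ind_linearIndependent f hf)] at h3
  refine h3.trans ((finrank_range_le_card _).trans ?_)
  rw [Nat.card_eq_fintype_card]

end Cfsg.Agent.H197.Reg
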