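import Cfsg.Agent.H197.Reg.Count
import Cfsg.Agent.H883.BR.Defs
import Cfsg.Agent.H666.TraceZero

/-!
# Irreducible Brauer characters in the defining characteristic: the stabiliser of the highest weight line

`ibr_le`: if `CRG p U'` (Curtis, Richen), `U' ≤ S` a `p`-group, and each subgroup containing `S` is generated by
`p`-elements, then the number of irreducible Brauer characters is at most the number of subgroups containing `S`.
-/

set_option autoImplicit false

namespace Cfsg.Agent.H197.Reg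

open Cfsg IsLocalRing Module
open Cfsg.Agent.H657 Cfsg.Agent.H883.BR

attribute [local instance] Above.isAlgClosed

section gen

variable {K W : Type} [Field K] [AddCommGroup W] [Module K W] {T : Type} [Group T]

theorem irr_of [FiniteDimensional K W] {σ : Representation K T W} (h : σ.IsIrreducible) :
    Irr (σ : T →* Module.End K W) ⊤ := by
  refine ⟨Module.nontrivial_of_finrank_pos (R := K) (Nat.pos_of_ne_zero (finrank_ne_zero' σ h)), fun U hU => ?_⟩
  let A : Subrepresentation σ := ⟨U, fun g v hv => hU g trivial v hv⟩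
  rcases h.eq_bot_or_eq_top A with h1 | h1
  · left
    rw [eq_bot_iff]
    intro v hv
    have h2 : v ∈ A := hv
    rw [h1] at h2
    exact h2
  · right
    rw [eq_top_iff]
    intro v _
    have h2 : v ∈ (⊤ : Subrepresentation σ) := trivial
    rw [← h1] at h2
    exact h2

/-- the stabiliser of the line of `w` -/
def St (σ : T →* Module.End K W) {w : W} (hw : w ≠ 0) : Subgroup T where
  carrier := {g | ∃ c : K, σ g w = c • w}
  one_mem' := ⟨1, by rw [map_one, one_smul]; rfl⟩
  mul_mem' := by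
    rintro g h ⟨a, ha⟩ ⟨b, hb⟩
    exact ⟨a * b, by rw [map_mul, Module.End.mul_apply, hb, map_smul, ha, smul_smul, mul_comm]⟩
  inv_mem' := by
    rintro g ⟨a, ha⟩
    have h1 : σ g⁻¹ (σ g w) = w := by
      rw [← Module.End.mul_apply, ← map_mul, inv_mul_cancel, map_one]
      rfl
    rw [ha, map_smul] at h1
    have h2 : a ≠ 0 := by
      rintro rfl
      rw [zero_smul] at h1
      exact hw h1.symm
    exact ⟨a⁻¹, by rw [← h1, smul_smul]; nth_rw 1 [h1]; rw [inv_mul_cancel₀ h2, one_smul]⟩

/-- the fixer of `w` -/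
def Fx (σ : T →* Module.End K W) (w : W) : Subgroup T where
  carrier := {g | σ g w = w}
  one_mem' := by
    show σ 1 w = w
    rw [map_one]
    rfl
  mul_mem' := by
    intro g h ha hb
    show σ (g * h) w = w
    have ha' : σ g w = w := ha
    have hb' : σ h w = w := hb
    rw [map_mul, Module.End.mul_apply, hb', ha']
  inv_mem' := by
    intro g ha
    have ha' : σ g w = w := ha
    show σ g⁻¹ w = w
    nth_rw 1 [← ha']
    rw [← Module.End.mul_apply, ← map_mul, inv_mul_cancel, map_one]
    rfl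

theorem mem_Fx_of {p : ℕ} [Fact p.Prime] [CharP K p] (σ : T →* Module.End K W) {w : W} (hw : w ≠ 0) {g : T}
    (hg : g ∈ St σ hw) {k : ℕ} (hk : g ^ p ^ k = 1) : g ∈ Fx σ w := by
  obtain ⟨c, hc⟩ := hg
  have h1 : ∀ n : ℕ, σ (g ^ n) w = c ^ n • w := by
    intro n
    induction n with
    | zero => rw [pow_zero, pow_zero, map_one, one_smul]; rfl
    | succ n ih => rw [pow_succ, map_mul, Module.End.mul_apply, hc, map_smul, ih, smul_smul, pow_succ']
  have h2 := h1 (p ^ k)
  rw [hk, map_one] at h2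
  have h3 : (c ^ p ^ k - 1) • w = 0 := by
    rw [sub_smul, ← h2, one_smul]
    exact sub_self _
  have h4 : c ^ p ^ k - 1 = 0 := (smul_eq_zero.1 h3).resolve_right hw
  have h5 : (c - 1) ^ p ^ k = 0 := by rw [sub_pow_char_pow, one_pow, h4]
  have h6 : c = 1 := sub_eq_zero.1 (eq_zero_of_pow_eq_zero h5)
  show σ g w = w
  rw [hc, h6, one_smul]

end gen

section main

variable {T : Type} [Group T] [Finite T] {p : ℕ} [Fact p.Prime] {V : ValuationSubring ℂ}
  [CharP (ResidueField V) p] {U' S : Subgroup T}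

theorem exists_line (h : CRG.{0, 0, 0} p U') (hS : IsPGroup p S) (hUS : U' ≤ S) (hc : Subgroup.center T = ⊥)
    (i : IBr V T) : ∃ w : Fin i.deg → ResidueField V, w ≠ 0 ∧ (∀ u ∈ S, i.rep u w = w) ∧
      ∀ v, (∀ u ∈ U', i.rep u v = v) ↔ ∃ c : ResidueField V, v = c • w := by
  have hirr := irr_of i.rep_irr
  obtain ⟨w, hw0, hw⟩ := h.one (ResidueField V) _ i.rep hirr (by
    intro z hz
    rw [hc, Subgroup.mem_bot] at hz
    rw [hz, map_one])
  obtain ⟨v, -, hv0, hv⟩ := Cfsg.Agent.H666.exists_fixed_ne_zero hS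
    ((i.rep : T →* Module.End _ _).comp S.subtype) ⊤ (fun _ _ _ => trivial) (by
      have := hirr.1
      exact top_ne_bot)
  have hv' : ∀ u ∈ S, i.rep u v = v := fun u hu => hv ⟨u, hu⟩
  obtain ⟨c, rfl⟩ := (hw v).1 fun u hu => hv' u (hUS hu)
  have hc0 : c ≠ 0 := by
    rintro rfl
    rw [zero_smul] at hv0
    exact hv0 rfl
  refine ⟨w, hw0, fun u hu => ?_, hw⟩
  have h1 := hv' u hu
  rw [map_smul] at h1
  exact smul_right_injective _ hc0 h1

theorem ibr_le (h : CRG.{0, 0, 0} p U') (hS : IsPGroup p S) (hUS : U' ≤ S) (hc : Subgroup.center T = ⊥)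
    (hgen : ∀ H : Subgroup T, S ≤ H → H ≤ Subgroup.closure {g | g ∈ H ∧ ∃ k, g ^ p ^ k = 1}) :
    Nat.card (IBr V T) ≤ Nat.card {H : Subgroup T // S ≤ H} := by
  choose w hw0 hwS hw using fun i : IBr V T => exists_line h hS hUS hc i
  have hst : ∀ i : IBr V T, S ≤ St i.rep (hw0 i) := fun i u hu => ⟨1, by rw [one_smul]; exact hwS i u hu⟩
  have hfx : ∀ i : IBr V T, St i.rep (hw0 i) ≤ Fx i.rep (w i) := by
    intro i
    refine (hgen _ (hst i)).trans ?_
    rw [Subgroup.closure_le]
    rintro g ⟨hg, k, hk⟩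
    exact mem_Fx_of i.rep (hw0 i) hg hk
  have := Fintype.ofFinite {H : Subgroup T // S ≤ H}
  have hfin : Finite {H : Subgroup T // S ≤ H} := inferInstance
  refine Nat.card_le_card_of_injective (fun i : IBr V T => (⟨St i.rep (hw0 i), hst i⟩ : {H : Subgroup T // S ≤ H})) ?_
  intro i j hij
  have hij' : St i.rep (hw0 i) = St j.rep (hw0 j) := congrArg Subtype.val hij
  have hz : ∀ i : IBr V T, ∀ z ∈ Subgroup.center T, i.rep z = 1 := by
    intro i z hz
    rw [hc, Subgroup.mem_bot] at hz
    rw [hz, map_one]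
  have hone : ∀ (i : IBr V T) (b : T) (c : ResidueField V), b ∈ St i.rep (hw0 i) →
      (i.rep b (w i) = c • w i ↔ c = 1) := by
    intro i b c hb
    have h1 : i.rep b (w i) = w i := hfx i hb
    rw [h1]
    constructor
    · intro h2
      have h3 : (1 - c) • w i = 0 := by
        rw [sub_smul, one_smul, ← h2, sub_self]
      exact (sub_eq_zero.1 ((smul_eq_zero.1 h3).resolve_right (hw0 i))).symm
    · rintro rfl
      rw [one_smul]
  obtain ⟨e, he⟩ := h.iso (ResidueField V) _ _ i.rep j.rep (irr_of i.rep_irr) (irr_of j.rep_irr) (hz i) (hz j)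
    (w i) (w j) (hw0 i) (hw0 j) (fun u hu => hwS i u (hUS hu)) (fun u hu => hwS j u (hUS hu)) (by
      intro b c _
      by_cases hb : b ∈ St i.rep (hw0 i)
      · have hb' : b ∈ St j.rep (hw0 j) := hij' ▸ hb
        rw [hone i b c hb, hone j b c hb']
      · have hb' : b ∉ St j.rep (hw0 j) := hij' ▸ hb
        exact ⟨fun h => absurd ⟨c, h⟩ hb, fun h => absurd ⟨c, h⟩ hb'⟩) (by
      intro g
      exact ⟨fun hg => (hij' ▸ hg : g ∈ St j.rep (hw0 j)), fun hg => (hij' ▸ hg : g ∈ St i.rep (hw0 i))⟩)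
  apply Subtype.ext
  funext g
  rw [← i.trace_rep g, ← j.trace_rep g]
  have h1 : j.rep g = e.conj (i.rep g) := by
    apply LinearMap.ext
    intro v
    rw [LinearEquiv.conj_apply_apply, he, LinearEquiv.apply_symm_apply]
  rw [h1, LinearMap.trace_conj']

end main

end Cfsg.Agent.H197.Reg
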