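import Cfsg.Agent.H197.Reg.Inj
import Cfsg.Agent.H887.BR.CRG
import Cfsg.Agent.FourTwo.AutF4
import Cfsg.Agent.FourTwo.Perf
import Cfsg.Agent.S1054

/-!
# `F₄(2)` has at most 16 classes of elements of odd order (helper197)

The irreducible Brauer characters in characteristic 2 are determined by the stabiliser of the line fixed by a Sylow
2-subgroup (Curtis, Richen), one of 16 subgroups.
-/

set_option autoImplicit false

namespace Cfsg.Agent.H197.Reg

open Cfsg Cfsg.Lie IsLocalRing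
open Cfsg.Agent.H657 Cfsg.Agent.H883.BR
open Cfsg.Agent.FourTwo.Base Cfsg.Agent.FourTwo.BN Cfsg.Agent.FourTwo.Cent

theorem simple_LL : IsSimpleGroup LL := (Cfsg.Agent.S1054.result (F := ZMod 2) chevF4 (by simp)).1

theorem center_LL : Subgroup.center LL = ⊥ := by
  have hs := simple_LL
  rcases hs.eq_bot_or_eq_top_of_normal (Subgroup.center LL) inferInstance with h | h
  · exact h
  · exfalso
    refine (Cfsg.Agent.S1054.result (F := ZMod 2) chevF4 (by simp)).2 ⟨⟨fun a b => ?_⟩⟩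
    have h1 : b ∈ Subgroup.center LL := by rw [h]; trivial
    exact Subgroup.mem_center_iff.1 h1 a

theorem lie_LL : Cfsg.IsLieTypeChar 2 LL :=
  Or.inr (Or.inr (Or.inr (Or.inr (Or.inr (Or.inr (Or.inl
    ⟨ZMod 2, inferInstance, inferInstance, inferInstance, Or.inr (Or.inl ⟨MulEquiv.refl _⟩)⟩))))))

/-- a subgroup containing a conjugate of `U` is generated by 2-elements -/
theorem gen_LL {H : Subgroup LL} (hU : U ≤ H) : H ≤ Subgroup.closure {g | g ∈ H ∧ ∃ k, g ^ 2 ^ k = 1} := by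
  nth_rw 1 [parabolic_eq hU]
  refine sup_le ?_ ?_
  · intro u hu
    have h1 := (Cfsg.Agent.FourTwo.AutF4.isPGroup_U) ⟨u, hu⟩
    obtain ⟨k, hk⟩ := h1
    exact Subgroup.subset_closure ⟨hU hu, k, congrArg Subtype.val hk⟩
  · refine (Subgroup.closure_le _).2 ?_
    rintro _ ⟨i, hi, hn, rfl⟩
    refine Subgroup.subset_closure ⟨hn, 1, ?_⟩
    rw [pow_one, sq, n_mul_self hi]

theorem card_over : Nat.card {H : Subgroup LL // U ≤ H} ≤ 16 := by
  classical
  have h1 : Nat.card (Fin 4 → Bool) = 16 := by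
    rw [Nat.card_eq_fintype_card]
    decide
  rw [← h1]
  refine Nat.card_le_card_of_injective
    (fun (H : {H : Subgroup LL // U ≤ H}) (i : Fin 4) => decide (n i ∈ H.1)) ?_
  rintro ⟨H, hH⟩ ⟨H', hH'⟩ h
  have h2 : ∀ i < 4, n i ∈ H ↔ n i ∈ H' := by
    intro i hi
    have h3 := congrFun h ⟨i, hi⟩
    simpa using h3
  apply Subtype.ext
  show H = H'
  rw [parabolic_eq hH, parabolic_eq hH']
  congr 2
  ext g
  constructor
  · rintro ⟨i, hi, hn, rfl⟩
    exact ⟨i, hi, (h2 i hi).1 hn, rfl⟩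
  · rintro ⟨i, hi, hn, rfl⟩
    exact ⟨i, hi, (h2 i hi).2 hn, rfl⟩

theorem mem_comap_conj {g x : LL} {H : Subgroup LL} :
    x ∈ H.comap (MulAut.conj g).toMonoidHom ↔ g * x * g⁻¹ ∈ H := Iff.rfl

theorem card_over' (g : LL) : Nat.card {H : Subgroup LL // U.map (MulAut.conj g).toMonoidHom ≤ H} ≤ 16 := by
  refine le_trans (Nat.card_le_card_of_injective
    (fun H : {H : Subgroup LL // U.map (MulAut.conj g).toMonoidHom ≤ H} =>
      (⟨H.1.comap (MulAut.conj g).toMonoidHom, Subgroup.map_le_iff_le_comap.1 H.2⟩ : {H : Subgroup LL // U ≤ H})) ?_)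
    card_over
  rintro ⟨H, hH⟩ ⟨H', hH'⟩ h
  apply Subtype.ext
  have h1 : H.comap (MulAut.conj g).toMonoidHom = H'.comap (MulAut.conj g).toMonoidHom := congrArg Subtype.val h
  show H = H'
  ext x
  have h2 : g⁻¹ * x * g ∈ H.comap (MulAut.conj g).toMonoidHom ↔ g⁻¹ * x * g ∈ H'.comap (MulAut.conj g).toMonoidHom := by
    rw [h1]
  rw [mem_comap_conj, mem_comap_conj] at h2
  have e : g * (g⁻¹ * x * g) * g⁻¹ = x := by group
  rwa [e] at h2

theorem gen_LL' {g : LL} {H : Subgroup LL} (hU : U.map (MulAut.conj g).toMonoidHom ≤ H) :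
    H ≤ Subgroup.closure {x | x ∈ H ∧ ∃ k, x ^ 2 ^ k = 1} := by
  intro x hx
  have h1 := gen_LL (Subgroup.map_le_iff_le_comap.1 hU) (x := g⁻¹ * x * g) (by
    rw [mem_comap_conj]
    have : g * (g⁻¹ * x * g) * g⁻¹ = x := by group
    rwa [this])
  have h2 : x = (MulAut.conj g).toMonoidHom (g⁻¹ * x * g) := by
    show x = g * (g⁻¹ * x * g) * g⁻¹
    group
  rw [h2]
  have h3 := Subgroup.mem_map_of_mem (MulAut.conj g).toMonoidHom h1
  rw [MonoidHom.map_closure] at h3
  refine Subgroup.closure_mono ?_ h3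
  rintro _ ⟨y, ⟨hy, k, hk⟩, rfl⟩
  refine ⟨mem_comap_conj.1 hy, k, ?_⟩
  rw [← map_pow, hk, map_one]

theorem card_ibr {M : Ideal AlgInt} (hM : IsPModular 2 M) {V : ValuationSubring ℂ} (hV : Above M V) :
    Nat.card (IBr V LL) ≤ 16 := by
  have hs := simple_LL
  have hp : Fact (Nat.Prime 2) := ⟨Nat.prime_two⟩
  have := hV.charP hM
  obtain ⟨U', hU'⟩ := Cfsg.Agent.H887.BR.crg_simple.{0, 0, 0} (p := 2) lie_LL
  obtain ⟨S, hS⟩ := hU'.isP.exists_le_sylow
  obtain ⟨g, hg⟩ := MulAction.exists_smul_eq LL Cfsg.Agent.FourTwo.Perf.sylU S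
  have h1 : (S : Subgroup LL) = U.map (MulAut.conj g).toMonoidHom := by
    rw [← hg]
    rfl
  refine (ibr_le hU' S.isPGroup' hS center_LL (fun H hH => ?_)).trans ?_
  · exact gen_LL' (g := g) (by rwa [← h1])
  · rw [h1]
    exact card_over' g

/-- pairwise nonconjugate elements of odd order: at most 16 -/
theorem le16 {ι : Type*} [Fintype ι] (f : ι → LL) (ho : ∀ i, Odd (orderOf (f i)))
    (hf : ∀ i j, IsConj (f i) (f j) → i = j) : Fintype.card ι ≤ 16 := by
  obtain ⟨M, hM⟩ := Blocks.ExistsModular.exists_isPModular Nat.prime_two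
  obtain ⟨V, hV⟩ := Cfsg.Agent.H657.exists_above hM
  refine (card_le_ibr hM hV f (fun i => ?_) hf).trans (card_ibr hM hV)
  have h1 := ho i
  show ¬ 2 ∣ orderOf (f i)
  exact fun h => (Nat.not_even_iff_odd.2 h1) (even_iff_two_dvd.2 h)

/-- **16 pairwise nonconjugate elements of odd order represent all classes of elements of odd order** -/
theorem exists_conj16 (f : Fin 16 → LL) (ho : ∀ i, Odd (orderOf (f i))) (hf : ∀ i j, IsConj (f i) (f j) → i = j)
    {g : LL} (hg : Odd (orderOf g)) : ∃ i, IsConj (f i) g := by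
  by_contra hcon
  push Not at hcon
  have h1 := le16 (ι := Option (Fin 16)) (fun o => o.elim g f) (by
    rintro (_ | i)
    · exact hg
    · exact ho i) (by
    rintro (_ | i) (_ | j) h
    · rfl
    · exact absurd h.symm (hcon j)
    · exact absurd h (hcon i)
    · rw [hf i j h])
  simp at h1

/-- **`F₄(2)` has at most 16 classes of elements of odd order** -/
theorem card_le16 : Nat.card {c : ConjClasses LL // ∀ g ∈ c.carrier, Odd (orderOf g)} ≤ 16 := by
  classical
  have := Fintype.ofFinite {c : ConjClasses LL // ∀ g ∈ c.carrier, Odd (orderOf g)}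
  rw [Nat.card_eq_fintype_card]
  choose r hr using fun c : ConjClasses LL => ConjClasses.exists_rep c
  refine le16 (fun c => r c.1) (fun c => c.2 _ ?_) (fun c d h => ?_)
  · rw [ConjClasses.mem_carrier_iff_mk_eq, hr]
  · apply Subtype.ext
    rw [← hr c.1, ← hr d.1]
    exact ConjClasses.mk_eq_mk_iff_isConj.2 h

end Cfsg.Agent.H197.Reg
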